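import Mathlib
import Cfsg.Agent.BpTab.Base
import Cfsg.Agent.S0058
import Cfsg.Agent.S0205

/-!
# Groups all of whose involution centralizers are abelian are `Good p`

`good_of_abCent` : if `C_H(t)` is abelian for every involution `t` of `H`, then `Good p H`.
-/

set_option autoImplicit false
set_option linter.unusedSectionVars false

namespace Cfsg.Agent.BpRee

open Subgroup Cfsg Cfsg.Agent.BpTab
open Cfsg.Agent.SignalizersComponents

variable {H : Type*} [Group H] [Finite H]

/-- a normal subgroup of order prime to `p` with solvable quotient -/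
theorem good_of_solvable_core {p : ℕ} [Fact p.Prime] (hs : Group.IsSolvable (H ⧸ pPrimeCore p H)) : Good p H := by
  have hn : (pPrimeCore p H).Normal := Lib.Cores.pPrimeCore_normal p
  refine Good.of_solvable_quotient (N := pPrimeCore p H) (good_of_not_dvd ?_ Fact.out) hs
  exact (Nat.Prime.coprime_iff_not_dvd Fact.out).1 (Lib.Cores.pPrimeCore_coprime (G := H) p).symm

/-- a group with a normal subgroup of order prime to `p` covered, together with a solvable subgroup -/
theorem good_of_cover {p : ℕ} [Fact p.Prime] (N : Subgroup H) (hs : Group.IsSolvable ↥N)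
    (hc : N ⊔ pPrimeCore p H = ⊤) : Good p H := by
  have hn : (pPrimeCore p H).Normal := Lib.Cores.pPrimeCore_normal p
  refine good_of_solvable_core ?_
  let f : ↥N →* H ⧸ pPrimeCore p H := (QuotientGroup.mk' _).comp N.subtype
  have hf : Function.Surjective f := by
    intro y
    obtain ⟨y, rfl⟩ := QuotientGroup.mk'_surjective _ y
    have hy : y ∈ N ⊔ pPrimeCore p H := by rw [hc]; exact mem_top y
    rw [mem_sup_of_normal_right] at hy
    obtain ⟨n, hn', w, hw, rfl⟩ := hy
    refine ⟨⟨n, hn'⟩, ?_⟩
    change (QuotientGroup.mk n : H ⧸ pPrimeCore p H) = QuotientGroup.mk (n * w)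
    rw [QuotientGroup.eq]
    rwa [← mul_assoc, inv_mul_cancel, one_mul]
  exact Group.isSolvable_of_surjective hf

theorem exists_involution {N : Subgroup H} (h : 2 ∣ Nat.card N) : ∃ t ∈ N, orderOf t = 2 := by
  have h2 : Fact (Nat.Prime 2) := ⟨Nat.prime_two⟩
  obtain ⟨t, ht⟩ := exists_prime_orderOf_dvd_card' 2 h
  exact ⟨t, t.2, by rw [Subgroup.orderOf_coe, ht]⟩

/-- perfect groups of even order have no cyclic Sylow 2-subgroup -/
theorem not_isCyclic {L : Type*} [Group L] [Finite L] (hL : ⁅(⊤ : Subgroup L), (⊤ : Subgroup L)⁆ = ⊤)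
    (h2L : 2 ∣ Nat.card L) (P : Sylow 2 L) : ¬ IsCyclic ↥(P : Subgroup L) := by
  intro hc
  have h2 : Fact (Nat.Prime 2) := ⟨Nat.prime_two⟩
  have hmin : (Nat.card L).minFac = 2 := (Nat.minFac_eq_two_iff _).2 h2L
  have h1 := IsCyclic.isComplement' hmin (P := P) hc
  have h3 : (MonoidHom.transferSylow P (hc.normalizer_le_centralizer hmin)).ker = ⊤ := by
    rw [eq_top_iff, ← hL, commutator_le]
    intro a _ b _
    rw [MonoidHom.mem_ker, map_commutatorElement]
    exact commutatorElement_eq_one_iff_mul_comm.2 (hc.isMulCommutative.is_comm.comm _ _)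
  rw [h3] at h1
  have h4 := isComplement'_top_left.1 h1
  have h5 := P.ne_bot_of_dvd_card h2L
  exact h5 h4

/-- an involution in the group generated by a 2-element -/
theorem exists_pow_involution {a : H} (ha : a ≠ 1) {k : ℕ} (hk : a ^ 2 ^ k = 1) : ∃ n, orderOf (a ^ n) = 2 := by
  have h1 : orderOf a ∣ 2 ^ k := orderOf_dvd_of_pow_eq_one hk
  obtain ⟨j, -, hj⟩ := (Nat.dvd_prime_pow Nat.prime_two).1 h1
  have hj0 : j ≠ 0 := by
    rintro rfl
    rw [pow_zero, orderOf_eq_one_iff] at hj
    exact ha hj
  refine ⟨2 ^ (j - 1), ?_⟩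
  rw [orderOf_pow_of_dvd (by positivity) (by rw [hj]; exact pow_dvd_pow 2 (by omega)), hj]
  obtain ⟨i, rfl⟩ := Nat.exists_eq_succ_of_ne_zero hj0
  rw [Nat.succ_eq_add_one, Nat.add_sub_cancel, pow_succ, Nat.mul_div_cancel_left _ (by positivity)]

section Ab

variable (hab : ∀ t : H, orderOf t = 2 → ∀ a ∈ centralizer ({t} : Set H), ∀ b ∈ centralizer ({t} : Set H), a * b = b * a)

include hab

/-- a Sylow 2-subgroup is abelian -/
theorem sylow_comm (P : Sylow 2 H) : ∀ a ∈ (P : Subgroup H), ∀ b ∈ (P : Subgroup H), a * b = b * a := by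
  intro a ha b hb
  have h2 : Fact (Nat.Prime 2) := ⟨Nat.prime_two⟩
  by_cases hbot : (P : Subgroup H) = ⊥
  · rw [hbot, mem_bot] at ha hb
    rw [ha, hb]
  have : Nontrivial ↥(P : Subgroup H) := (nontrivial_iff_ne_bot _).2 hbot
  have h1 : Nontrivial (center ↥(P : Subgroup H)) := P.2.center_nontrivial
  obtain ⟨z, hz⟩ := exists_ne (1 : center ↥(P : Subgroup H))
  have hz1 : ((z : ↥(P : Subgroup H)) : H) ≠ 1 := fun h => hz (Subtype.ext (Subtype.ext h))
  obtain ⟨k, hk⟩ := P.2 (z : ↥(P : Subgroup H))
  obtain ⟨n, hn⟩ := exists_pow_involution hz1 (k := k) (by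
    have := congrArg Subtype.val hk
    simpa using this)
  have hc : ∀ a ∈ (P : Subgroup H), a ∈ centralizer ({((z : ↥(P : Subgroup H)) : H) ^ n} : Set H) := by
    intro a ha
    rw [mem_centralizer_singleton_iff]
    have h3 : Commute a ((z : ↥(P : Subgroup H)) : H) := congrArg Subtype.val (mem_center_iff.1 z.2 ⟨a, ha⟩)
    exact h3.pow_right n
  exact hab _ hn a (hc a ha) b (hc b hb)

/-- the centralizers of two commuting involutions agree -/
theorem cent_eq {s t : H} (hs : orderOf s = 2) (ht : orderOf t = 2) (hst : s * t = t * s) :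
    centralizer ({s} : Set H) = centralizer ({t} : Set H) := by
  have key : ∀ {s t : H}, orderOf s = 2 → s * t = t * s → centralizer ({s} : Set H) ≤ centralizer ({t} : Set H) := by
    intro s t hs hst a ha
    rw [mem_centralizer_singleton_iff]
    exact hab s hs a ha t (mem_centralizer_singleton_iff.2 hst.symm)
  exact le_antisymm (key hs hst) (key ht hst.symm)

theorem good_of_abCent {p : ℕ} [Fact p.Prime] : Good p H := by
  have h2 : Fact (Nat.Prime 2) := ⟨Nat.prime_two⟩
  have hn : (pPrimeCore p H).Normal := Lib.Cores.pPrimeCore_normal p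
  set W := pPrimeCore p H with hW
  by_cases heven : 2 ∣ Nat.card W
  · -- `H` is `W` times a solvable group
    obtain ⟨P', hP'⟩ : ∃ P' : Sylow 2 W, P' = default := ⟨_, rfl⟩
    set Q : Subgroup H := (P' : Subgroup W).map W.subtype with hQ
    have hQ2 : IsPGroup 2 Q := P'.2.map _
    obtain ⟨P, hP⟩ := hQ2.exists_le_sylow
    have hfr : normalizer (Q : Set H) ⊔ W = ⊤ := Sylow.normalizer_sup_eq_top P'
    have hQd : 2 ∣ Nat.card Q := by
      have h3 : 2 ∣ Nat.card (P' : Subgroup W) := by
        have h4 : (P' : Subgroup W) ≠ ⊥ := P'.ne_bot_of_dvd_card heven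
        have h5 : Nontrivial ↥(P' : Subgroup W) := (nontrivial_iff_ne_bot _).2 h4
        obtain ⟨k, hk, h6⟩ := (P'.2).nontrivial_iff_card.1 h5
        rw [h6]
        exact dvd_pow_self 2 hk.ne'
      rwa [hQ, card_map_of_injective W.subtype_injective]
    obtain ⟨t, htQ, ht⟩ := exists_involution hQd
    have hcomm := sylow_comm hab P
    -- `N(Q) ≤ N(C(t))`
    set A : Subgroup H := centralizer ({t} : Set H) with hA
    have hNA : normalizer (Q : Set H) ≤ normalizer (A : Set H) := by
      intro n hn'
      have h3 : n * t * n⁻¹ ∈ Q := (mem_normalizer_iff.1 hn' t).1 htQ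
      have h4 : orderOf (n * t * n⁻¹) = 2 := by
        rw [← ht]
        exact orderOf_injective (MulAut.conj n).toMonoidHom (MulAut.conj n).injective t
      have h5 : centralizer ({n * t * n⁻¹} : Set H) = A :=
        cent_eq hab h4 ht (hcomm _ (hP h3) _ (hP htQ))
      rw [mem_normalizer_iff]
      intro a
      conv_rhs => rw [← h5]
      rw [hA, mem_centralizer_singleton_iff, mem_centralizer_singleton_iff]
      constructor
      · intro h6
        calc n * a * n⁻¹ * (n * t * n⁻¹) = n * (a * t) * n⁻¹ := by group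
          _ = n * (t * a) * n⁻¹ := by rw [h6]
          _ = _ := by group
      · intro h6
        have h7 : n * (a * t) * n⁻¹ = n * (t * a) * n⁻¹ := by
          calc n * (a * t) * n⁻¹ = n * a * n⁻¹ * (n * t * n⁻¹) := by group
            _ = n * t * n⁻¹ * (n * a * n⁻¹) := h6
            _ = _ := by group
        exact mul_left_cancel (mul_right_cancel h7)
    have hPA : (P : Subgroup H) ≤ A := fun a ha => mem_centralizer_singleton_iff.2 (hcomm a ha t (hP htQ))
    -- `N(A)` is solvable
    have hsol : Group.IsSolvable ↥(normalizer (A : Set H)) := by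
      have hAn : (A.subgroupOf (normalizer (A : Set H))).Normal := normal_in_normalizer
      have h3 : Group.IsSolvable ↥(A.subgroupOf (normalizer (A : Set H))) := by
        refine Group.isSolvable_of_comm fun a b => ?_
        apply Subtype.ext
        apply Subtype.ext
        exact hab t ht _ (mem_subgroupOf.1 a.2) _ (mem_subgroupOf.1 b.2)
      have h4 : Odd (Nat.card (↥(normalizer (A : Set H)) ⧸ A.subgroupOf (normalizer (A : Set H)))) := by
        rw [← Subgroup.index_eq_card]
        have h5 : (A.subgroupOf (normalizer (A : Set H))).index ∣ (P : Subgroup H).index := by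
          have h6 : A.relIndex (normalizer (A : Set H)) ∣ A.index := relIndex_dvd_index_of_le le_normalizer
          exact h6.trans (index_dvd_of_le hPA)
        have h6 : ¬ 2 ∣ (P : Subgroup H).index := P.not_dvd_index
        rw [← Nat.not_even_iff_odd, even_iff_two_dvd]
        exact fun h => h6 (h.trans h5)
      have h5 := S0205.result h4
      exact Group.isSolvable_of_ker_le_range (A.subgroupOf (normalizer (A : Set H))).subtype
        (QuotientGroup.mk' (A.subgroupOf (normalizer (A : Set H)))) (by rw [QuotientGroup.ker_mk', range_subtype])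
    refine good_of_cover (normalizer (Q : Set H)) ?_ hfr
    exact Group.isSolvable_of_isSolvable_injective (f := inclusion hNA) (inclusion_injective _)
  · -- `W` has odd order
    rw [good_iff]
    intro L hL
    have hperf := ClassificationK.PCompTransport.isPComponent_perfect p hL
    have hns : ¬ Group.IsSolvable ↥L := by
      intro hs
      have := Lib.Cores.pPrimeCore_normal (G := ↥L) p
      exact Components.quasisimple_not_isSolvable (Intrinsic.Charac.isPComponent_iff.mp hL).2.1 inferInstance
    have h2L : 2 ∣ Nat.card L := by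
      by_contra h
      apply hns
      apply S0205.result
      rwa [← Nat.not_even_iff_odd, even_iff_two_dvd]
    have hLtop : ⁅(⊤ : Subgroup ↥L), (⊤ : Subgroup ↥L)⁆ = ⊤ := by
      apply map_injective L.subtype_injective
      rw [map_commutator, ← MonoidHom.range_eq_map, range_subtype, hperf]
    obtain ⟨P0, -⟩ : ∃ P0 : Sylow 2 ↥L, P0 = default := ⟨_, rfl⟩
    have hncyc := not_isCyclic hLtop h2L P0
    set A : Subgroup H := (P0 : Subgroup ↥L).map L.subtype with hA
    have hA2 : IsPGroup 2 A := P0.2.map _
    obtain ⟨P, hP⟩ := hA2.exists_le_sylow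
    have hcomm := sylow_comm hab P
    have hAcomm : IsMulCommutative ↥A := ⟨⟨fun a b => Subtype.ext (hcomm _ (hP a.2) _ (hP b.2))⟩⟩
    have hAcyc : ¬ IsCyclic ↥A := by
      intro h
      apply hncyc
      exact isCyclic_of_surjective ((P0 : Subgroup ↥L).equivMapOfInjective L.subtype L.subtype_injective).symm
        ((P0 : Subgroup ↥L).equivMapOfInjective L.subtype L.subtype_injective).symm.surjective
    have hcop : (Nat.card A).Coprime (Nat.card W) := by
      obtain ⟨k, hk⟩ := IsPGroup.iff_card.1 hA2
      rw [hk]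
      exact Nat.Coprime.pow_left k ((Nat.Prime.coprime_iff_not_dvd Nat.prime_two).2 heven)
    have hnorm : A ≤ normalizer (W : Set H) := by
      rw [normalizer_eq_top_iff.2 hn]
      exact le_top
    have hgen := S0058.result A W hAcyc hnorm hcop
    have hAW : ∀ a ∈ A, ∀ w ∈ W, a * w = w * a := by
      intro a ha
      have h3 : W ≤ centralizer ({a} : Set H) := by
        rw [← hgen]
        refine iSup₂_le ?_
        rintro b ⟨hb, hb1⟩ w ⟨hw, hwb⟩
        obtain ⟨k, hk⟩ := hA2 ⟨b, hb⟩
        obtain ⟨n, hn'⟩ := exists_pow_involution hb1 (k := k) (congrArg Subtype.val hk)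
        rw [mem_centralizer_singleton_iff]
        refine hab _ hn' w ?_ a ?_
        · rw [mem_centralizer_singleton_iff]
          exact Commute.pow_right (mem_centralizer_singleton_iff.1 hwb) n
        · rw [mem_centralizer_singleton_iff]
          exact Commute.pow_right (hcomm a (hP ha) b (hP hb)) n
      intro w hw
      exact (mem_centralizer_singleton_iff.1 (h3 hw)).symm
    -- `L ≤ C(W)`
    have hCn : (centralizer (W : Set H)).Normal := inferInstance
    set C : Subgroup ↥L := (centralizer (W : Set H)).subgroupOf L with hC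
    have hCn' : C.Normal := inferInstance
    have hP0C : (P0 : Subgroup ↥L) ≤ C := by
      intro a ha
      rw [hC, mem_subgroupOf, mem_centralizer_iff]
      intro w hw
      exact (hAW _ (mem_map_of_mem _ ha) w hw).symm
    have hodd : Odd (Nat.card (↥L ⧸ C)) := by
      rw [← Subgroup.index_eq_card, ← Nat.not_even_iff_odd, even_iff_two_dvd]
      intro h
      exact P0.not_dvd_index (h.trans (index_dvd_of_le hP0C))
    have h3 : (⊤ : Subgroup ↥L) ≤ C := perfect_le_of_solvable (S0205.result hodd) hLtop
    rw [commutator_eq_bot_iff_le_centralizer]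
    intro a ha
    exact mem_subgroupOf.1 (h3 (mem_top (⟨a, ha⟩ : ↥L)))

end Ab

end Cfsg.Agent.BpRee
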