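import Mathlib
import Cfsg.Agent.Walter.FieldPSL
import Cfsg.Agent.CpAutRee.PslThree
import Cfsg.Agent.CpAut.Psl
import Cfsg.Agent.ClassicalGeometry.PSL2Basic

/-!
# `PSL(2, F)`, `F` finite of odd characteristic: elements and automorphisms of odd order

* `comm_of_odd` : centralizers of elements of odd order are abelian;
* `odd_normal` : no normal subgroups of odd order;
* `dichotomy` : an automorphism `α` with `α ^ p = 1` (`p` an odd prime) is inner, or it centralizes a four-group and its
  centralizer has no nontrivial normal subgroup of odd order.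
-/

set_option autoImplicit false

namespace Cfsg.Agent.BpRee.PslOdd

open Matrix
open Cfsg.Agent.ClassicalGeometry
open Cfsg.Agent.ClassicalGeometry.AutPSL.Root
open Cfsg.Agent.ClassicalGeometry.AutPSL.Auto
open Cfsg.Agent.Walter.FieldPSL

variable {F : Type*} [Field F]

theorem mat_comm {A B C : Matrix (Fin 2) (Fin 2) F} (hA : A 0 1 ≠ 0 ∨ A 1 0 ≠ 0 ∨ A 0 0 - A 1 1 ≠ 0)
    (h1 : A * B = B * A) (h2 : A * C = C * A) : B * C = C * B := by
  have e : ∀ {A B : Matrix (Fin 2) (Fin 2) F}, A * B = B * A → A 0 1 * B 1 0 = B 0 1 * A 1 0 ∧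
      (A 0 0 - A 1 1) * B 0 1 = A 0 1 * (B 0 0 - B 1 1) ∧ (A 0 0 - A 1 1) * B 1 0 = A 1 0 * (B 0 0 - B 1 1) := by
    intro A B h
    have h00 := congrFun (congrFun h 0) 0
    have h01 := congrFun (congrFun h 0) 1
    have h10 := congrFun (congrFun h 1) 0
    simp only [mul_apply, Fin.sum_univ_two] at h00 h01 h10
    refine ⟨?_, ?_, ?_⟩
    · linear_combination h00
    · linear_combination h01
    · linear_combination -h10
  obtain ⟨a1, a2, a3⟩ := e h1
  obtain ⟨b1, b2, b3⟩ := e h2
  have g : B 0 1 * C 1 0 = C 0 1 * B 1 0 ∧ (B 0 0 - B 1 1) * C 0 1 = B 0 1 * (C 0 0 - C 1 1) ∧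
      (B 0 0 - B 1 1) * C 1 0 = B 1 0 * (C 0 0 - C 1 1) := by
    rcases hA with hA | hA | hA
    · refine ⟨?_, ?_, ?_⟩
      · apply mul_left_cancel₀ hA
        linear_combination B 0 1 * b1 - C 0 1 * a1
      · apply mul_left_cancel₀ hA
        linear_combination -C 0 1 * a2 + B 0 1 * b2
      · apply mul_left_cancel₀ (mul_ne_zero hA hA)
        linear_combination (A 0 0 - A 1 1) * B 0 1 * b1 - (A 0 0 - A 1 1) * C 0 1 * a1 - A 0 1 * C 1 0 * a2 +
          A 0 1 * B 1 0 * b2
    · refine ⟨?_, ?_, ?_⟩
      · apply mul_left_cancel₀ hA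
        linear_combination -C 1 0 * a1 + B 1 0 * b1
      · apply mul_left_cancel₀ (mul_ne_zero hA hA)
        linear_combination -(A 0 0 - A 1 1) * B 1 0 * b1 - A 1 0 * C 0 1 * a3 + (A 0 0 - A 1 1) * C 1 0 * a1 +
          A 1 0 * B 0 1 * b3
      · apply mul_left_cancel₀ hA
        linear_combination -C 1 0 * a3 + B 1 0 * b3
    · refine ⟨?_, ?_, ?_⟩
      · apply mul_left_cancel₀ (mul_ne_zero hA hA)
        linear_combination A 0 1 * (B 0 0 - B 1 1) * b3 + (A 0 0 - A 1 1) * C 1 0 * a2 -
          A 0 1 * (C 0 0 - C 1 1) * a3 - (A 0 0 - A 1 1) * B 1 0 * b2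
      · apply mul_left_cancel₀ hA
        linear_combination (B 0 0 - B 1 1) * b2 - (C 0 0 - C 1 1) * a2
      · apply mul_left_cancel₀ hA
        linear_combination (B 0 0 - B 1 1) * b3 - (C 0 0 - C 1 1) * a3
  obtain ⟨g1, g2, g3⟩ := g
  ext i j
  fin_cases i <;> fin_cases j
  · simp only [mul_apply, Fin.sum_univ_two, Fin.zero_eta, Fin.isValue]
    linear_combination g1
  · simp only [mul_apply, Fin.sum_univ_two, Fin.zero_eta, Fin.isValue, Fin.mk_one]
    linear_combination g2
  · simp only [mul_apply, Fin.sum_univ_two, Fin.zero_eta, Fin.isValue, Fin.mk_one]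
    linear_combination -g3
  · simp only [mul_apply, Fin.sum_univ_two, Fin.isValue, Fin.mk_one]
    linear_combination -g1

/-- a lift of odd order -/
theorem exists_lift {g : Matrix.ProjectiveSpecialLinearGroup (Fin 2) F} {n : ℕ} (hn : Odd n) (hg : g ^ n = 1) :
    ∃ A : Matrix.SpecialLinearGroup (Fin 2) F, pr A = g ∧ A ^ n = 1 := by
  obtain ⟨A, rfl⟩ := pr_surjective g
  rw [← map_pow, ← map_one pr, pr_eq_iff] at hg
  rcases hg with h | h
  · exact ⟨A, rfl, h⟩
  · refine ⟨-A, pr_neg A, ?_⟩
    rw [hn.neg_pow, h, neg_neg]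

/-- **Centralizers of elements of odd order are abelian.** -/
theorem comm_of_odd (h2 : (2 : F) ≠ 0) {g : Matrix.ProjectiveSpecialLinearGroup (Fin 2) F} {n : ℕ} (hn : Odd n)
    (hg : g ^ n = 1) (hg1 : g ≠ 1) {a b : Matrix.ProjectiveSpecialLinearGroup (Fin 2) F} (ha : a * g = g * a)
    (hb : b * g = g * b) : a * b = b * a := by
  obtain ⟨A, rfl, hA⟩ := exists_lift hn hg
  have key : ∀ {B : Matrix.SpecialLinearGroup (Fin 2) F}, pr B * pr A = pr A * pr B → B * A = A * B := by
    intro B hB
    rw [← map_mul, ← map_mul, pr_eq_iff] at hB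
    rcases hB with h | h
    · exact h
    · exfalso
      have h1 : B * A * B⁻¹ = -A := by rw [h, neg_mul, mul_inv_cancel_right]
      have h3 : (B * A * B⁻¹) ^ n = 1 := by rw [conj_pow, hA, mul_one, mul_inv_cancel]
      rw [h1, hn.neg_pow, hA] at h3
      have h4 := congrFun (congrFun (congrArg Subtype.val h3) 0) 0
      rw [Matrix.SpecialLinearGroup.coe_neg, Matrix.neg_apply] at h4
      simp only [Matrix.SpecialLinearGroup.coe_one, Matrix.one_apply_eq] at h4
      apply h2
      linear_combination -h4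
  obtain ⟨B, rfl⟩ := pr_surjective a
  obtain ⟨C, rfl⟩ := pr_surjective b
  have hB := key ha
  have hC := key hb
  have hns : A.1 0 1 ≠ 0 ∨ A.1 1 0 ≠ 0 ∨ A.1 0 0 - A.1 1 1 ≠ 0 := by
    by_contra hcon
    push Not at hcon
    obtain ⟨e1, e2, e3⟩ := hcon
    have hdet := A.2
    rw [det_fin_two, e1, e2, mul_zero, sub_zero, ← sub_eq_zero.1 e3] at hdet
    apply hg1
    rw [← map_one pr, pr_eq_iff]
    rcases mul_self_eq_one_iff.1 hdet with h | h
    · left
      apply Subtype.ext
      ext i j
      fin_cases i <;> fin_cases j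
      · simpa using h
      · simpa using e1
      · simpa using e2
      · have : A.1 1 1 = 1 := by rw [← sub_eq_zero.1 e3, h]
        simpa using this
    · right
      apply Subtype.ext
      ext i j
      fin_cases i <;> fin_cases j
      · simpa using h
      · simpa using e1
      · simpa using e2
      · have : A.1 1 1 = -1 := by rw [← sub_eq_zero.1 e3, h]
        simpa using this
  have h3 : B.1 * C.1 = C.1 * B.1 :=
    mat_comm hns (congrArg Subtype.val hB).symm (congrArg Subtype.val hC).symm
  rw [← map_mul, ← map_mul]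
  congr 1
  exact Subtype.ext h3

/-- **`PSL(2, E)` has no normal subgroups of odd order.** -/
theorem odd_normal {E : Type*} [Field E] [Fintype E] (hodd : Odd (Fintype.card E))
    (N : Subgroup (Matrix.ProjectiveSpecialLinearGroup (Fin 2) E)) (hN : N.Normal) (hNo : Odd (Nat.card N)) :
    N = ⊥ := by
  classical
  have h2E : (2 : E) ≠ 0 := by
    intro h
    have hch : CharP E 2 := CharTwo.of_one_ne_zero_of_two_eq_zero (R := E) one_ne_zero h
    have h3 : 2 ∣ Fintype.card E := by
      obtain ⟨n, -, h4⟩ := FiniteField.card E 2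
      rw [h4]
      exact dvd_pow_self 2 n.2.ne'
    rw [Nat.odd_iff] at hodd
    omega
  -- no involutions in `N`
  have hinv : ∀ g ∈ N, g * g = 1 → g = 1 := by
    intro g hg h
    have h1 : orderOf (⟨g, hg⟩ : N) ∣ 2 := orderOf_dvd_of_pow_eq_one (Subtype.ext (by
      change g ^ 2 = 1
      rw [pow_two, h]))
    have h3 : orderOf (⟨g, hg⟩ : N) ∣ Nat.card N := orderOf_dvd_natCard _
    have h4 : orderOf (⟨g, hg⟩ : N) = 1 := by
      rcases (Nat.dvd_prime Nat.prime_two).1 h1 with h5 | h5
      · exact h5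
      · exfalso
        rw [h5, ← even_iff_two_dvd, ← Nat.not_odd_iff_even] at h3
        exact h3 hNo
    exact congrArg Subtype.val (orderOf_eq_one_iff.1 h4)
  by_cases h4 : 4 ≤ Fintype.card E
  · have hs : IsSimpleGroup (Matrix.ProjectiveSpecialLinearGroup (Fin 2) E) :=
      Matrix.ProjectiveSpecialLinearGroup.rank_two_simple (by rw [Nat.card_eq_fintype_card]; exact h4)
    rcases hN.eq_bot_or_eq_top with h | h
    · exact h
    · exfalso
      have := hinv (pr I) (by rw [h]; exact Subgroup.mem_top _) pr_I_sq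
      exact CpAutRee.PslThree.pr_I_ne this
  · have hcard : Fintype.card E = 3 := by
      have h5 : 1 < Fintype.card E := Fintype.one_lt_card
      have h6 := hodd
      rw [Nat.odd_iff] at h6
      omega
    have h3E : (3 : E) = 0 := by
      have := Nat.cast_card_eq_zero E
      rw [hcard] at this
      exact_mod_cast this
    have hcP : Nat.card (Matrix.ProjectiveSpecialLinearGroup (Fin 2) E) = 12 := by
      have := PSL2Basic.card_PSL2_odd E hodd
      rw [hcard] at this
      omega
    have hdvd : Nat.card N ∣ 12 := by rw [← hcP]; exact Subgroup.card_subgroup_dvd_card N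
    have hN13 : Nat.card N = 1 ∨ Nat.card N = 3 := by
      have hle := Nat.le_of_dvd (by norm_num) hdvd
      obtain ⟨k, hk⟩ := hNo
      interval_cases Nat.card N <;> omega
    rcases hN13 with h1 | h3
    · exact Subgroup.card_eq_one.1 h1
    · exfalso
      have hidx : N.index = 4 := by
        have := N.card_mul_index
        rw [h3, hcP] at this
        omega
      have hmem : ∀ x : Matrix.ProjectiveSpecialLinearGroup (Fin 2) E, x ^ 3 = 1 → x ∈ N := by
        intro x hx
        rw [← QuotientGroup.eq_one_iff]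
        have e1 : (QuotientGroup.mk x : _ ⧸ N) ^ 3 = 1 := by rw [← QuotientGroup.mk_pow, hx, QuotientGroup.mk_one]
        have e2 : (QuotientGroup.mk x : _ ⧸ N) ^ 4 = 1 := by
          have := pow_card_eq_one' (x := (QuotientGroup.mk x : _ ⧸ N))
          rwa [← Subgroup.index_eq_card, hidx] at this
        calc (QuotientGroup.mk x : _ ⧸ N) = (QuotientGroup.mk x : _ ⧸ N) ^ 4 * ((QuotientGroup.mk x : _ ⧸ N) ^ 3)⁻¹ := by
              group
          _ = 1 := by rw [e1, e2]; group
      let u : Matrix.SpecialLinearGroup (Fin 2) E := ⟨!![1, 1; 0, 1], by simp [det_fin_two]⟩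
      let l : Matrix.SpecialLinearGroup (Fin 2) E := ⟨!![1, 0; 1, 1], by simp [det_fin_two]⟩
      have hu : u ^ 3 = 1 := by
        apply Subtype.ext
        have e : (!![1, 1; 0, 1] : Matrix (Fin 2) (Fin 2) E) * !![1, 1; 0, 1] * !![1, 1; 0, 1] = 1 := by
          ext i j
          fin_cases i <;> fin_cases j <;>
            simp [Matrix.mul_apply, Fin.sum_univ_two] <;> linear_combination h3E
        rw [pow_succ, pow_two]
        exact e
      have hl : l ^ 3 = 1 := by
        apply Subtype.ext
        have e : (!![1, 0; 1, 1] : Matrix (Fin 2) (Fin 2) E) * !![1, 0; 1, 1] * !![1, 0; 1, 1] = 1 := by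
          ext i j
          fin_cases i <;> fin_cases j <;>
            simp [Matrix.mul_apply, Fin.sum_univ_two] <;> linear_combination h3E
        rw [pow_succ, pow_two]
        exact e
      have hm : (u * l).1 = !![1 + 1, 1; 1, 1] := by
        change (!![1, 1; 0, 1] : Matrix (Fin 2) (Fin 2) E) * !![1, 0; 1, 1] = _
        ext i j
        fin_cases i <;> fin_cases j <;> simp [Matrix.mul_apply, Fin.sum_univ_two]
      have hul : (u * l) * (u * l) = -1 := by
        apply Subtype.ext
        have e : (!![1 + 1, 1; 1, 1] : Matrix (Fin 2) (Fin 2) E) * !![1 + 1, 1; 1, 1] = !![-1, 0; 0, -1] := by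
          ext i j
          fin_cases i <;> fin_cases j
          · simp only [Matrix.mul_apply, Fin.sum_univ_two]
            simp
            linear_combination 2 * h3E
          · simp only [Matrix.mul_apply, Fin.sum_univ_two]
            simp
            linear_combination h3E
          · simp only [Matrix.mul_apply, Fin.sum_univ_two]
            simp
            linear_combination h3E
          · simp only [Matrix.mul_apply, Fin.sum_univ_two]
            simp
            linear_combination h3E
        rw [Matrix.SpecialLinearGroup.coe_mul, hm, e, Matrix.SpecialLinearGroup.coe_neg,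
          Matrix.SpecialLinearGroup.coe_one]
        ext i j
        fin_cases i <;> fin_cases j <;> simp
      have h4 : pr (u * l) ∈ N := by
        rw [map_mul]
        refine mul_mem (hmem _ ?_) (hmem _ ?_)
        · rw [← map_pow, hu, map_one]
        · rw [← map_pow, hl, map_one]
      have h5 : pr (u * l) * pr (u * l) = 1 := by
        rw [← map_mul, hul, pr_neg, map_one]
      have h6 := hinv _ h4 h5
      rw [← map_one pr, pr_eq_iff] at h6
      have h7 := CpAutRee.PslThree.I_ne _ h6
      rw [hm] at h7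
      simp at h7

/-- the fixed points of a field automorphism have no normal subgroups of odd order -/
theorem odd_normal_fld [Fintype F] (h2 : (2 : F) ≠ 0) {σ : F ≃+* F} {m : ℕ} (hm : Odd m) (hσ : σ ^ m = 1)
    (N : Subgroup (Matrix.ProjectiveSpecialLinearGroup (Fin 2) F)) (hNo : Odd (Nat.card N))
    (hfix : ∀ n ∈ N, lift (fld σ) n = n)
    (hnorm : ∀ d, lift (fld σ) d = d → ∀ n ∈ N, d * n * d⁻¹ ∈ N) : N = ⊥ := by
  classical
  have := Fintype.ofFinite (Fix σ)
  have hle : N ≤ (pincl (Fix σ)).range := fun n hn => (mem_range_pincl_iff h2 hm hσ n).2 (hfix n hn)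
  have hoddF : Odd (Fintype.card (Fix σ)) := by
    have h1 := card_eq_Fix_pow σ
    rw [← Nat.card_eq_fintype_card, ← Nat.not_even_iff_odd]
    intro he
    have h3 : Odd (Nat.card F) := by
      rw [Nat.card_eq_fintype_card]
      exact (PSL2Basic.two_ne_zero_iff_odd F).1 h2
    rw [h1, ← Nat.not_even_iff_odd] at h3
    apply h3
    refine he.pow_of_ne_zero ?_
    have : Finite (F ≃+* F) := Finite.of_injective (fun σ : F ≃+* F => (σ : F → F)) DFunLike.coe_injective
    exact (orderOf_pos σ).ne'
  have h1 := odd_normal hoddF (N.comap (pincl (Fix σ))) ⟨by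
    intro n hn d
    rw [Subgroup.mem_comap, map_mul, map_mul, map_inv]
    exact hnorm _ ((mem_range_pincl_iff h2 hm hσ _).1 ⟨d, rfl⟩) _ hn⟩ (by
    refine Odd.of_dvd_nat hNo ?_
    exact Subgroup.card_comap_dvd_of_injective N (pincl (Fix σ)) (pincl_injective _))
  rw [eq_bot_iff]
  intro n hn
  obtain ⟨y, rfl⟩ := hle hn
  have hy : y ∈ N.comap (pincl (Fix σ)) := hn
  rw [h1, Subgroup.mem_bot] at hy
  rw [hy, map_one]
  exact Subgroup.one_mem _

/-- **The dichotomy.** -/
theorem dichotomy [Fintype F] (h2 : (2 : F) ≠ 0) {p : ℕ} (hp : p.Prime) (hp2 : p ≠ 2)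
    {α : MulAut (Matrix.ProjectiveSpecialLinearGroup (Fin 2) F)} (hα : α ^ p = 1) :
    (∃ g, α = MulAut.conj g) ∨
    ((∃ u v : Matrix.ProjectiveSpecialLinearGroup (Fin 2) F,
      u ≠ 1 ∧ v ≠ 1 ∧ u ≠ v ∧ u * u = 1 ∧ v * v = 1 ∧ u * v = v * u ∧ α u = u ∧ α v = v) ∧
    ∀ N : Subgroup (Matrix.ProjectiveSpecialLinearGroup (Fin 2) F), Odd (Nat.card N) → (∀ n ∈ N, α n = n) →
      (∀ d, α d = d → ∀ n ∈ N, d * n * d⁻¹ ∈ N) → N = ⊥) := by
  have hodd : Odd p := hp.odd_of_ne_two hp2
  obtain ⟨A, σ, rfl⟩ := CpAut.Psl.exists_of_odd le_rfl hodd hα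
  by_cases hσ1 : σ = 1
  · left
    subst hσ1
    obtain ⟨k, hk⟩ := hodd
    have h5 : lift (cj A * fld (1 : F ≃+* F)) = lift (cj (A ^ (k + 1) * A ^ (k + 1))) := by
      have e1 : lift (cj A * fld (1 : F ≃+* F)) = lift (cj A) := by rw [map_one fld, mul_one]
      rw [e1] at hα ⊢
      rw [← pow_add, map_pow, map_pow, show k + 1 + (k + 1) = p + 1 by omega, pow_succ, hα, one_mul]
    rw [h5]
    refine CpAutRee.PslThree.lift_cj_inner (c := ((A ^ (k + 1) : GL (Fin 2) F) : Matrix (Fin 2) (Fin 2) F).det) ?_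
    rw [Units.val_mul, Matrix.det_mul, sq]
  · right
    obtain ⟨hord, B, hform⟩ := CpAut.Psl.exists_conj hp hα hσ1
    have hσp : σ ^ p = 1 := by rw [← hord]; exact pow_orderOf_eq_one σ
    have hrel : ∀ y, lift (cj A * fld σ) (lift (cj B) y) = lift (cj B) (lift (fld σ) y) := by
      intro y
      rw [hform, map_mul, map_mul, map_inv, MulAut.mul_apply, MulAut.mul_apply]
      congr 2
      rw [← MulAut.mul_apply, inv_mul_cancel, MulAut.one_apply]
    refine ⟨?_, ?_⟩
    · obtain ⟨a, b, hab⟩ := exists_sq_add_sq F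
      have hfa : σ (a : F) = a := map_natCast σ a
      have hfb : σ (b : F) = b := map_natCast σ b
      have hfix : ∀ x : Matrix.SpecialLinearGroup (Fin 2) F, fld σ x = x →
          lift (cj A * fld σ) (lift (cj B) (pr x)) = lift (cj B) (pr x) := by
        intro x hx
        rw [hrel, lift_pr, hx]
      have hinj := (lift (cj B)).injective
      refine ⟨lift (cj B) (pr I), lift (cj B) (pr (J a b hab)), ?_, ?_, ?_, ?_, ?_, ?_, ?_, ?_⟩
      · exact fun h => CpAutRee.PslThree.pr_I_ne (hinj (h.trans (map_one _).symm))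
      · exact fun h => CpAutRee.PslThree.pr_J_ne h2 hab (hinj (h.trans (map_one _).symm))
      · exact fun h => CpAutRee.PslThree.pr_IJ_ne h2 hab (hinj h)
      · rw [← map_mul, pr_I_sq, map_one]
      · rw [← map_mul, pr_J_sq, map_one]
      · rw [← map_mul, pr_IJ, map_mul]
      · exact hfix _ (fld_I σ)
      · exact hfix _ (fld_J σ hab hfa hfb)
    · intro N hNo hfix hnorm
      have h1 := odd_normal_fld h2 hodd hσp (N.comap (lift (cj B)).toMonoidHom) (by
        refine Odd.of_dvd_nat hNo ?_
        exact Subgroup.card_comap_dvd_of_injective N _ (lift (cj B)).injective) (by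
        intro n hn
        apply (lift (cj B)).injective
        rw [← hrel]
        exact hfix _ hn) (by
        intro d hd n hn
        change lift (cj B) (d * n * d⁻¹) ∈ N
        rw [map_mul, map_mul, map_inv]
        exact hnorm _ (by rw [hrel, hd]) _ hn)
      rw [eq_bot_iff]
      intro n hn
      obtain ⟨y, rfl⟩ := (lift (cj B)).surjective n
      have hy : y ∈ N.comap (lift (cj B)).toMonoidHom := hn
      rw [h1, Subgroup.mem_bot] at hy
      rw [hy, map_one]
      exact Subgroup.one_mem _

end Cfsg.Agent.BpRee.PslOdd
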