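import Mathlib
import Cfsg.Agent.BpRee.AbCent
import Cfsg.Agent.BpRee.PslOdd
import Cfsg.Agent.BpTab.Rows
import Cfsg.Agent.CpAutRee.Abs
import Cfsg.Agent.Lib.KleinGen

/-!
# S1332: groups of Janko-Ree type

`bpS` : a finite simple group `K` of Janko-Ree type (elementary abelian Sylow 2-subgroups of order 8, centralizers of
involutions `Z₂ × PSL(2, F)`, `F` of odd characteristic) satisfies `BpS p K` for every odd prime `p`.
-/

set_option autoImplicit false
set_option linter.unusedSectionVars false

namespace Cfsg.Agent.BpRee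

open Subgroup Cfsg Cfsg.Agent.BpTab
open Cfsg.Agent.Walter Cfsg.Agent.Walter.Types
open Cfsg.Agent.CpAutRee.Abs

section Prod

variable {P : Type*} [Group P] [IsSimpleGroup P]

theorem ind_pow' [Finite P] (hna : ∃ a b : P, a * b ≠ b * a) {β : MulAut (Multiplicative (ZMod 2) × P)} {n : ℕ}
    (hβ : β ^ n = 1) : ind hna β ^ n = 1 := by
  have key : ∀ (k : ℕ) (u : P), (β ^ k) (1, u) = (1, (ind hna β ^ k) u) := by
    intro k
    induction k with
    | zero => intro u; rfl
    | succ k ih =>
      intro u
      rw [pow_succ, pow_succ, MulAut.mul_apply, MulAut.mul_apply, apply_one hna, ih]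
  ext u
  have h1 := key n u
  rw [hβ] at h1
  exact (congrArg Prod.snd h1).symm

end Prod

section JR

variable {K : Type*} [Group K] [Finite K] [IsSimpleGroup K]

theorem two_ne {F : Type*} [Field F] [Fintype F] (h8 : Fintype.card F % 8 = 3 ∨ Fintype.card F % 8 = 5) :
    (2 : F) ≠ 0 := by
  have hodd : Odd (Fintype.card F) := by rw [Nat.odd_iff]; omega
  exact (ClassicalGeometry.PSL2Basic.two_ne_zero_iff_odd F).2 hodd

theorem psl_facts {F : Type*} [Field F] [Fintype F] (h5 : 5 ≤ Fintype.card F) :
    IsSimpleGroup (Matrix.ProjectiveSpecialLinearGroup (Fin 2) F) ∧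
      ∃ a b : Matrix.ProjectiveSpecialLinearGroup (Fin 2) F, a * b ≠ b * a := by
  refine ⟨Matrix.ProjectiveSpecialLinearGroup.rank_two_simple (by rw [Nat.card_eq_fintype_card]; omega), ?_⟩
  by_contra hcon
  push Not at hcon
  exact Cfsg.Agent.ClassicalGeometry.PSL2Solvable.not_isSolvable_psl F (by omega) (Group.isSolvable_of_comm hcon)

theorem center_bot {P : Type*} [Group P] [IsSimpleGroup P] (hna : ∃ a b : P, a * b ≠ b * a) :
    center P = ⊥ := by
  rcases (inferInstance : (center P).Normal).eq_bot_or_eq_top with h4 | h4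
  · exact h4
  · exfalso
    obtain ⟨a, b, hab⟩ := hna
    exact hab (mem_center_iff.1 (by rw [h4]; exact mem_top b) a)

/-- an element of odd order of `Z₂ × P` lies in `P` -/
theorem fst_of_odd {P : Type*} [Group P] {w : Multiplicative (ZMod 2) × P} {n : ℕ} (hn : Odd n) (hw : w ^ n = 1) :
    w.1 = 1 := by
  have h1 : w.1 ^ n = 1 := congrArg Prod.fst hw
  have h2 : ∀ z : Multiplicative (ZMod 2), z ^ 2 = 1 := by decide
  obtain ⟨k, rfl⟩ := hn
  rwa [pow_succ, pow_mul, h2, one_pow, one_mul] at h1

/-- **The centralizer of an element of odd order which commutes with an involution**: abelian involution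
centralizers. -/
theorem abCent (hJ : IsJR K) {y : K} {n : ℕ} (hn : Odd n) (hyn : y ^ n = 1) (hy1 : y ≠ 1) :
    ∀ t : ↥(centralizer ({y} : Set K)), orderOf t = 2 → ∀ a ∈ centralizer ({t} : Set ↥(centralizer ({y} : Set K))),
      ∀ b ∈ centralizer ({t} : Set ↥(centralizer ({y} : Set K))), a * b = b * a := by
  obtain ⟨F, i1, i2, h8, h5, hC⟩ := hJ.2
  intro t ht a ha b hb
  have ht' : orderOf (t : K) = 2 := by rw [Subgroup.orderOf_coe, ht]
  obtain ⟨e⟩ := hC (t : K) ht'
  obtain ⟨hPs, hPna⟩ := psl_facts (F := F) h5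
  have mem : ∀ {w : K}, w * (t : K) = t * w → w ∈ centralizer ({(t : K)} : Set K) := fun h =>
    mem_centralizer_singleton_iff.2 h
  have hty : y * (t : K) = t * y := (mem_centralizer_singleton_iff.1 t.2).symm
  let Y : ↥(centralizer ({(t : K)} : Set K)) := ⟨y, mem hty⟩
  let A : ↥(centralizer ({(t : K)} : Set K)) := ⟨a, mem (congrArg Subtype.val (mem_centralizer_singleton_iff.1 ha))⟩
  let B : ↥(centralizer ({(t : K)} : Set K)) := ⟨b, mem (congrArg Subtype.val (mem_centralizer_singleton_iff.1 hb))⟩
  have hY1 : (e Y).1 = 1 := fst_of_odd hn (by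
    rw [← map_pow]
    have : Y ^ n = 1 := Subtype.ext hyn
    rw [this, map_one])
  have hY2 : (e Y).2 ≠ 1 := by
    intro h
    have h1 : e Y = 1 := Prod.ext hY1 h
    rw [← map_one e] at h1
    exact hy1 (congrArg Subtype.val (e.injective h1))
  have hYn : (e Y).2 ^ n = 1 := by
    have h0 : Y ^ n = 1 := Subtype.ext hyn
    have h1 : (e Y) ^ n = 1 := by rw [← map_pow, h0, map_one]
    exact congrArg Prod.snd h1
  have hAY : A * Y = Y * A := Subtype.ext (mem_centralizer_singleton_iff.1 a.2)
  have hBY : B * Y = Y * B := Subtype.ext (mem_centralizer_singleton_iff.1 b.2)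
  have hAB : (e A).2 * (e B).2 = (e B).2 * (e A).2 := by
    refine PslOdd.comm_of_odd (two_ne h8) hn hYn hY2 ?_ ?_
    · rw [← Prod.snd_mul, ← Prod.snd_mul, ← map_mul, ← map_mul, hAY]
    · rw [← Prod.snd_mul, ← Prod.snd_mul, ← map_mul, ← map_mul, hBY]
  have h1 : e (A * B) = e (B * A) := by
    rw [map_mul, map_mul]
    exact Prod.ext (mul_comm _ _) hAB
  have h2 : (a : K) * b = b * a := congrArg Subtype.val (e.injective h1)
  exact Subtype.ext h2

/-- **The dichotomy.** -/
theorem dich (hJ : IsJR K) (hB : AutFacts.Bender K) (hna : ∃ a b : K, a * b ≠ b * a) {p : ℕ} (hp : p.Prime)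
    (hp2 : p ≠ 2) (x : MulAut K) (hx : x ^ p = 1) {s : K} (hs2 : orderOf s = 2) (hxs : x s = s) :
    (∃ g : K, x = MulAut.conj g) ∨ (8 ∣ Nat.card ↥(fixedSubgroup x) ∧
      ∀ N : Subgroup K, Odd (Nat.card N) → (∀ n ∈ N, n * s = s * n) → (∀ n ∈ N, x n = n) →
        (∀ d, x d = d → d * s = s * d → ∀ n ∈ N, d * n * d⁻¹ ∈ N) → N = ⊥) := by
  have h2 : Fact (Nat.Prime 2) := ⟨Nat.prime_two⟩
  have hpo : Odd p := hp.odd_of_ne_two hp2
  obtain ⟨F, i1, i2, h8, h5, hC⟩ := hJ.2
  obtain ⟨e⟩ := hC s hs2
  have hs1 : s ≠ 1 := by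
    rintro rfl
    rw [orderOf_one] at hs2
    omega
  have hss : s * s = 1 := by rw [← sq, ← hs2, pow_orderOf_eq_one]
  have hF2 := two_ne h8
  obtain ⟨hPs, hPna⟩ := psl_facts (F := F) h5
  have hPz := center_bot hPna
  let D := centralizer ({s} : Set K)
  let s' : D := ⟨s, mem_centralizer_singleton_iff.2 rfl⟩
  let β : MulAut (Multiplicative (ZMod 2) × Matrix.ProjectiveSpecialLinearGroup (Fin 2) F) :=
    MulAut.congr e (res x hxs)
  have hβe : ∀ d : D, β (e d) = e (res x hxs d) := by
    intro d
    change e (res x hxs (e.symm (e d))) = _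
    rw [e.symm_apply_apply]
  have hresn : ∀ (k : ℕ) (d : D), (((res x hxs) ^ k) d : K) = (x ^ k) d := by
    intro k
    induction k with
    | zero => intro d; rfl
    | succ k ih => intro d; rw [pow_succ, pow_succ, MulAut.mul_apply, MulAut.mul_apply, ih]; rfl
  have hresp : res x hxs ^ p = 1 := by
    ext d
    rw [hresn, hx]
    rfl
  have hβp : β ^ p = 1 := by
    change (MulAut.congr e (res x hxs)) ^ p = 1
    rw [← map_pow, hresp, map_one]
  have hs'c : ∀ d : D, s' * d = d * s' := by
    intro d
    exact Subtype.ext (mem_centralizer_singleton_iff.1 d.2).symm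
  -- `e s' = (z, 1)`
  have hes2 : (e s').2 = 1 := by
    have h3 : (e s').2 ∈ center (Matrix.ProjectiveSpecialLinearGroup (Fin 2) F) := by
      rw [mem_center_iff]
      intro u
      have h4 := congrArg e (hs'c (e.symm (1, u)))
      rw [map_mul, map_mul, e.apply_symm_apply] at h4
      exact (congrArg Prod.snd h4).symm
    rw [hPz] at h3
    exact h3
  have hz : (e s').1 ≠ 1 := by
    intro h3
    have h4 : e s' = 1 := Prod.ext h3 hes2
    rw [← map_one e] at h4
    exact hs1 (congrArg Subtype.val (e.injective h4))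
  have hes : e s' = ((e s').1, 1) := Prod.ext rfl hes2
  have hβs : β ((e s').1, 1) = ((e s').1, 1) := by
    rw [← hes, hβe]
    congr 1
    exact Subtype.ext hxs
  have hαp := ind_pow' hPna hβp
  have hfix : ∀ {w : Matrix.ProjectiveSpecialLinearGroup (Fin 2) F} {d : D}, e d = (1, w) →
      ind hPna β w = w → x (d : K) = d := by
    intro w d hd hw
    have h3 : e (res x hxs d) = e d := by
      rw [← hβe, hd, apply_one hPna, hw]
    exact congrArg Subtype.val (e.injective h3)
  rcases PslOdd.dichotomy hF2 hp hp2 hαp with ⟨g, hg⟩ | ⟨⟨u, v, hu1, hv1, huv, hu2, hv2, hc, hfu, hfv⟩, hN⟩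
  · left
    let y : D := e.symm (1, g)
    have hy : e y = (1, g) := e.apply_symm_apply _
    have hconj : ∀ d : D, x (d : K) = y * d * (y : K)⁻¹ := by
      intro d
      have h3 : e (res x hxs d) = e (y * d * y⁻¹) := by
        rw [← hβe, map_mul, map_mul, map_inv, hy]
        have h4 : e d = ((e d).1, 1) * (1, (e d).2) := by
          rw [Prod.mk_mul_mk, mul_one, one_mul]
        have h5 : β ((e d).1, 1) = ((e d).1, 1) := by
          rcases exists_z hz (e d).1 with h6 | h6
          · rw [h6]
            exact map_one β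
          · rw [h6]
            exact hβs
        rw [h4, map_mul, h5, apply_one hPna, hg, MulAut.conj_apply]
        ext
        · simp
        · simp
      exact congrArg Subtype.val (e.injective h3)
    have hxy : x (y : K) = y := by rw [hconj]; group
    have hgp : g ^ p = 1 := by
      rw [hg, ← map_pow] at hαp
      have h3 : g ^ p ∈ center (Matrix.ProjectiveSpecialLinearGroup (Fin 2) F) := by
        rw [mem_center_iff]
        intro w
        have h4 : MulAut.conj (g ^ p) w = w := by rw [hαp]; rfl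
        rw [MulAut.conj_apply, mul_inv_eq_iff_eq_mul] at h4
        exact h4.symm
      rw [hPz] at h3
      exact h3
    have hyp : (y : K) ^ p = 1 := by
      have h3 : e (y ^ p) = 1 := by
        rw [map_pow, hy, Prod.pow_mk, hgp, one_pow]
        rfl
      rw [← map_one e] at h3
      exact congrArg Subtype.val (e.injective h3)
    -- `φ` centralizes `C(s)`
    let φ : MulAut K := (MulAut.conj (y : K))⁻¹ * x
    have hφ : ∀ d ∈ D, φ d = d := by
      intro d hd
      change (MulAut.conj (y : K))⁻¹ (x d) = d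
      rw [hconj ⟨d, hd⟩, ← map_inv, MulAut.conj_apply]
      group
    have hcm : x * MulAut.conj (y : K) = MulAut.conj (y : K) * x := by
      ext d
      rw [MulAut.mul_apply, MulAut.mul_apply, MulAut.conj_apply, MulAut.conj_apply, map_mul, map_mul, map_inv, hxy]
    have hφp : φ ^ p = 1 := by
      have h3 : Commute (MulAut.conj (y : K))⁻¹ x :=
        (Commute.inv_left (show Commute (MulAut.conj (y : K)) x from hcm.symm))
      change ((MulAut.conj (y : K))⁻¹ * x) ^ p = 1
      rw [h3.mul_pow, hx, inv_pow, ← map_pow, hyp, map_one, inv_one, mul_one]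
    have hφo : Odd (orderOf φ) := hpo.of_dvd_nat (orderOf_dvd_of_pow_eq_one hφp)
    obtain ⟨S, hS⟩ : ∃ S : Sylow 2 K, s ∈ (S : Subgroup K) := by
      have h3 : IsPGroup 2 (zpowers s) := IsPGroup.of_card (n := 1) (by rw [Nat.card_zpowers, hs2, pow_one])
      obtain ⟨S, hS⟩ := h3.exists_le_sylow
      exact ⟨S, hS (mem_zpowers s)⟩
    obtain ⟨f1, f2, f3⟩ := PSLFacts.IsJR.facts hJ S
    have h3 := AutFacts.aut_eq_one hB hna S f1 (by rw [f2]; norm_num) f3 hS hs1 φ hφo hφ
    refine ⟨y, ?_⟩
    have h4 : (MulAut.conj (y : K))⁻¹ * x = 1 := h3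
    exact (inv_mul_eq_one.1 h4).symm
  · right
    refine ⟨?_, ?_⟩
    · let a : D := e.symm (1, u)
      let b : D := e.symm (1, v)
      have hea : e a = (1, u) := e.apply_symm_apply _
      have heb : e b = (1, v) := e.apply_symm_apply _
      have hmul : ∀ {w : Matrix.ProjectiveSpecialLinearGroup (Fin 2) F} {d : D}, e d = (1, w) → w * w = 1 →
          (d : K) * d = 1 := by
        intro w d hd hw
        have h3 : e (d * d) = 1 := by
          rw [map_mul, hd, Prod.mk_mul_mk, hw, one_mul]
          rfl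
        rw [← map_one e] at h3
        exact congrArg Subtype.val (e.injective h3)
      have hab : (a : K) * b = b * a := by
        have h3 : e (a * b) = e (b * a) := by
          rw [map_mul, map_mul, hea, heb, Prod.mk_mul_mk, Prod.mk_mul_mk, hc]
        exact congrArg Subtype.val (e.injective h3)
      refine eight_dvd (fixedSubgroup x) (s := s) (a := a) (b := b) hxs (hfix hea hfu) (hfix heb hfv) hss
        (hmul hea hu2) (hmul heb hv2) (mem_centralizer_singleton_iff.1 a.2).symm
        (mem_centralizer_singleton_iff.1 b.2).symm hab ?_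
      have hinj : Function.Injective (fun d : D => (d : K)) := Subtype.val_injective
      have h3 : [(1 : K), s, a, b, a * b] = ([1, s', a, b, a * b] : List D).map (fun d : D => (d : K)) := rfl
      rw [h3, List.nodup_map_iff hinj]
      rw [← List.nodup_map_iff e.injective]
      have h4 : ([1, s', a, b, a * b] : List D).map e =
          [1, ((e s').1, 1), (1, u), (1, v), (1, u * v)] := by
        rw [List.map_cons, List.map_cons, List.map_cons, List.map_cons, List.map_cons, List.map_nil, map_one, map_mul,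
          hea, heb, Prod.mk_mul_mk, one_mul, ← hes]
      rw [h4]
      have huv1 : u * v ≠ 1 := by
        intro h
        apply huv
        calc u = u * (v * v) := by rw [hv2, mul_one]
          _ = v := by rw [← mul_assoc, h, one_mul]
      have huvu : u * v ≠ u := fun h => hv1 (mul_eq_left.1 h)
      have huvv : u * v ≠ v := fun h => hu1 (mul_eq_right.1 h)
      simp only [List.nodup_cons, List.mem_cons, List.not_mem_nil, or_false, Prod.mk.injEq, not_or, not_and,
        List.nodup_nil, and_true, Prod.one_eq_mk, true_and, not_false_eq_true]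
      refine ⟨⟨fun h => absurd h.symm hz, hu1.symm, hv1.symm, huv1.symm⟩, ⟨fun h => absurd h hz, fun h => absurd h hz,
        fun h => absurd h hz⟩, ⟨huv, huvu.symm⟩, huvv.symm⟩
    · intro N hNo hNs hNx hNn
      have hND : N ≤ D := fun n hn => mem_centralizer_singleton_iff.2 (hNs n hn)
      let N' : Subgroup D := N.subgroupOf D
      let f : D →* Matrix.ProjectiveSpecialLinearGroup (Fin 2) F := (MonoidHom.snd _ _).comp e.toMonoidHom
      have hcard' : Nat.card N' = Nat.card N := Nat.card_congr (subgroupOfEquivOfLe hND).toEquiv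
      have hfst : ∀ n ∈ N', (e n).1 = 1 := by
        intro n hn
        refine fst_of_odd (n := Nat.card N') (by rw [hcard']; exact hNo) ?_
        rw [← map_pow]
        have h3 : n ^ Nat.card N' = 1 := by
          have h4 : (⟨n, hn⟩ : N') ^ Nat.card N' = 1 := pow_card_eq_one'
          exact congrArg Subtype.val h4
        rw [h3, map_one]
      have h3 := hN (N'.map f) (by
        refine Odd.of_dvd_nat hNo ?_
        rw [← hcard']
        exact card_map_dvd _ _) (by
        rintro _ ⟨n, hn, rfl⟩
        have h4 : e n = (1, f n) := Prod.ext (hfst n hn) rfl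
        have h5 : res x hxs n = n := Subtype.ext (hNx n (mem_subgroupOf.1 hn))
        have h6 : β (e n) = e n := by rw [hβe, h5]
        rw [h4, apply_one hPna] at h6
        exact (Prod.mk.inj h6).2) (by
        rintro d hd _ ⟨n, hn, rfl⟩
        let d' : D := e.symm (1, d)
        have hd' : e d' = (1, d) := e.apply_symm_apply _
        refine ⟨d' * n * d'⁻¹, ?_, ?_⟩
        · exact hNn d' (hfix hd' hd) (mem_centralizer_singleton_iff.1 d'.2) n hn
        · rw [map_mul, map_mul, map_inv]
          have : f d' = d := congrArg Prod.snd hd'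
          rw [this])
      rw [eq_bot_iff]
      intro n hn
      have hn' : (⟨n, hND hn⟩ : D) ∈ N' := hn
      have h4 : f ⟨n, hND hn⟩ = 1 := by
        rw [← mem_bot, ← h3]
        exact mem_map_of_mem f hn'
      have h5 : e ⟨n, hND hn⟩ = 1 := Prod.ext (hfst _ hn') h4
      rw [← map_one e] at h5
      exact congrArg Subtype.val (e.injective h5)

/-- **Groups of Janko-Ree type.** -/
theorem bpS (hJ : IsJR K) (hB : AutFacts.Bender K) (hna : ∃ a b : K, a * b ≠ b * a) (p : ℕ) [Fact p.Prime]
    (hp2 : p ≠ 2) : BpS p K := by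
  have hp : p.Prime := Fact.out
  have h2 : Fact (Nat.Prime 2) := ⟨Nat.prime_two⟩
  intro x hx
  have hxp : x ^ p = 1 := orderOf_dvd_iff_pow_eq_one.1 (dvd_of_eq hx)
  have hxo : Odd (orderOf x) := by rw [hx]; exact hp.odd_of_ne_two hp2
  by_cases hodd : 2 ∣ Nat.card ↥(fixedSubgroup x)
  swap
  · refine good_of_solvable (S0205.result ?_)
    rwa [← Nat.not_even_iff_odd, even_iff_two_dvd]
  obtain ⟨s, hs⟩ := exists_prime_orderOf_dvd_card' 2 hodd
  have hs2 : orderOf (s : K) = 2 := by rw [Subgroup.orderOf_coe, hs]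
  by_cases hinn : ∃ g : K, x = MulAut.conj g
  · obtain ⟨y, rfl⟩ := hinn
    have hc : ¬ IsMulCommutative K := by
      intro h
      obtain ⟨a, b, hab⟩ := hna
      exact hab (h.is_comm.comm a b)
    rw [CpAut.orderOf_conj (CpAut.center_eq_bot_of_simple hc)] at hx
    rw [CpAut.fixedSubgroup_conj]
    refine good_of_abCent ?_
    refine abCent hJ (n := p) (hp.odd_of_ne_two hp2) ?_ ?_
    · rw [← hx]
      exact pow_orderOf_eq_one y
    · rintro rfl
      rw [orderOf_one] at hx
      exact hp.one_lt.ne hx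
  · have key : ∀ {s : K}, orderOf s = 2 → x s = s → (8 ∣ Nat.card ↥(fixedSubgroup x) ∧
      ∀ N : Subgroup K, Odd (Nat.card N) → (∀ n ∈ N, n * s = s * n) → (∀ n ∈ N, x n = n) →
        (∀ d, x d = d → d * s = s * d → ∀ n ∈ N, d * n * d⁻¹ ∈ N) → N = ⊥) := by
      intro s hs hxs
      exact (dich hJ hB hna hp hp2 x hxp hs hxs).resolve_left hinn
    obtain ⟨h8, -⟩ := key hs2 s.2
    obtain ⟨S, hSle⟩ := exists_sylow_le h8 (fun S => (PSLFacts.IsJR.facts hJ S).2.1)
    obtain ⟨f1, f2, f3⟩ := PSLFacts.IsJR.facts hJ S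
    have hN : normalizer ((S : Subgroup K) : Set K) ≤ fixedSubgroup x := fun n hn =>
      AutFacts.fix_normalizer S f3 x hxo (fun s hs => hSle hs) hn
    have hWn : (pPrimeCore p ↥(fixedSubgroup x)).Normal := Lib.Cores.pPrimeCore_normal p
    set W : Subgroup K := (pPrimeCore p ↥(fixedSubgroup x)).map (fixedSubgroup x).subtype with hW
    have hWx : ∀ w ∈ W, x w = w := by
      rintro _ ⟨w, -, rfl⟩
      exact w.2
    have hWconj : ∀ d, x d = d → ∀ w ∈ W, d * w * d⁻¹ ∈ W := by
      rintro d hd _ ⟨w, hw, rfl⟩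
      exact ⟨⟨d, hd⟩ * w * ⟨d, hd⟩⁻¹, hWn.conj_mem w hw ⟨d, hd⟩, rfl⟩
    have hWcard : Nat.card W = Nat.card (pPrimeCore p ↥(fixedSubgroup x)) :=
      card_map_of_injective (fixedSubgroup x).subtype_injective
    by_cases hWe : 2 ∣ Nat.card W
    · -- `S ≤ W`
      obtain ⟨t, ⟨htW, htS⟩, ht⟩ : ∃ t ∈ W ⊓ (S : Subgroup K), t ≠ 1 := by
        rw [hWcard] at hWe
        obtain ⟨w, hw⟩ := exists_prime_orderOf_dvd_card' 2 hWe
        have hw' : orderOf (w : ↥(fixedSubgroup x)) = 2 := by rw [Subgroup.orderOf_coe, hw]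
        have h3 : IsPGroup 2 (zpowers (w : ↥(fixedSubgroup x))) :=
          IsPGroup.of_card (n := 1) (by rw [Nat.card_zpowers, hw', pow_one])
        obtain ⟨Q, hQ⟩ := h3.exists_le_sylow
        obtain ⟨c, hc⟩ := MulAction.exists_smul_eq ↥(fixedSubgroup x) Q (S.subtype hSle)
        have h4 : c * (w : ↥(fixedSubgroup x)) * c⁻¹ ∈ ((S.subtype hSle : Sylow 2 ↥(fixedSubgroup x)) :
            Subgroup ↥(fixedSubgroup x)) := by
          rw [← hc]
          exact smul_mem_pointwise_smul _ (MulAut.conj c) _ (hQ (mem_zpowers _))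
        refine ⟨((c * (w : ↥(fixedSubgroup x)) * c⁻¹ : ↥(fixedSubgroup x)) : K), ⟨⟨_, hWn.conj_mem _ w.2 c, rfl⟩, h4⟩, ?_⟩
        intro h
        have h5 : c * (w : ↥(fixedSubgroup x)) * c⁻¹ = 1 := Subtype.ext h
        rw [mul_inv_eq_one, mul_eq_left] at h5
        rw [h5, orderOf_one] at hw'
        omega
      have hSW : (S : Subgroup K) ≤ W := by
        intro w hw
        by_cases hw1 : w = 1
        · rw [hw1]
          exact one_mem _
        · obtain ⟨n, hn, rfl⟩ := AutFacts.transitive hna S f1 (by rw [f2]; norm_num) htS ht hw hw1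
          exact hWconj n (hN hn) t htW
      refine good_of_solvable_core (S0205.result ?_)
      have h5 : ((S.subtype hSle : Sylow 2 ↥(fixedSubgroup x)) : Subgroup ↥(fixedSubgroup x)) ≤
          pPrimeCore p ↥(fixedSubgroup x) := by
        intro w hw
        obtain ⟨w', hw', h6⟩ := hSW (show (w : K) ∈ (S : Subgroup K) from hw)
        have : w' = w := Subtype.ext h6
        rwa [← this]
      rw [← Subgroup.index_eq_card, ← Nat.not_even_iff_odd, even_iff_two_dvd]
      intro h
      exact (S.subtype hSle : Sylow 2 ↥(fixedSubgroup x)).not_dvd_index (h.trans (index_dvd_of_le h5))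
    · -- `W = 1`
      have hodd' : Odd (Nat.card W) := by rwa [← Nat.not_even_iff_odd, even_iff_two_dvd]
      have h1 : ∀ t ∈ (S : Subgroup K), t ≠ 1 → W ⊓ centralizer ({t} : Set K) = ⊥ := by
        intro t ht ht1
        have ht2 : orderOf t = 2 := orderOf_eq_prime (by rw [sq, f1 t ht]) ht1
        refine (key ht2 (hSle ht)).2 _ (hodd'.of_dvd_nat (card_dvd_of_le inf_le_left)) ?_ ?_ ?_
        · intro n hn
          exact mem_centralizer_singleton_iff.1 hn.2
        · intro n hn
          exact hWx n hn.1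
        · intro d hd hds n hn
          refine ⟨hWconj d hd n hn.1, ?_⟩
          have h3 := mem_centralizer_singleton_iff.1 hn.2
          change _ ∈ centralizer ({t} : Set K)
          rw [mem_centralizer_singleton_iff]
          have hds' : d⁻¹ * t = t * d⁻¹ := by
            rw [inv_mul_eq_iff_eq_mul, ← mul_assoc, hds, mul_inv_cancel_right]
          calc d * n * d⁻¹ * t = d * n * (d⁻¹ * t) := by group
            _ = d * (n * t) * d⁻¹ := by rw [hds']; group
            _ = d * t * n * d⁻¹ := by rw [h3]; group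
            _ = t * (d * n * d⁻¹) := by rw [hds]; group
      obtain ⟨a, ha, b, hb, ha1, hb1, hab⟩ : ∃ a ∈ (S : Subgroup K), ∃ b ∈ (S : Subgroup K), a ≠ 1 ∧ b ≠ 1 ∧ a ≠ b := by
        obtain ⟨a, ha, ha1⟩ : ∃ a ∈ (S : Subgroup K), a ≠ 1 := by
          refine (bot_or_exists_ne_one (S : Subgroup K)).resolve_left ?_
          intro h
          rw [h, card_bot] at f2
          omega
        by_contra hcon
        push Not at hcon
        have h3 : (S : Subgroup K) ≤ zpowers a := by
          intro b hb
          by_cases hb1 : b = 1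
          · rw [hb1]; exact one_mem _
          · rw [← hcon a ha b hb ha1 hb1]
            exact mem_zpowers a
        have h4 := Nat.le_of_dvd Nat.card_pos (card_dvd_of_le h3)
        have h5 : orderOf a ≤ 2 := Nat.le_of_dvd (by norm_num) (orderOf_dvd_of_pow_eq_one (by rw [sq, f1 a ha]))
        rw [Nat.card_zpowers, f2] at h4
        omega
      have hWbot : W ≤ ⊥ := by
        have hab1 : a * b ≠ 1 := by
          intro h
          apply hab
          calc a = a * (b * b) := by rw [f1 b hb, mul_one]
            _ = b := by rw [← mul_assoc, h, one_mul]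
        refine Lib.KleinGen.le_of_klein W ⊥ hodd' a b (f1 a ha) (f1 b hb) (AutFacts.comm_of_sq S f1 a ha b hb)
          (hWconj a (hSle ha)) (hWconj b (hSle hb)) ?_ ?_ ?_
        · exact (h1 a ha ha1).le
        · exact (h1 b hb hb1).le
        · exact (h1 _ (mul_mem ha hb) hab1).le
      refine good_of_core ?_
      have h3 : W = ⊥ := le_bot_iff.1 hWbot
      exact (Subgroup.map_eq_bot_iff_of_injective _ (fixedSubgroup x).subtype_injective).1 h3

end JR

end Cfsg.Agent.BpRee
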